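import Cfsg.Agent.Lib.Zsigmondy.Basic
import Mathlib

/-!
# An element of primitive prime order in a group acting on a space over the field with two elements

Such an element fixes no nonzero vector, leaves invariant no proper subgroup, and its centraliser
is cyclic.
-/

set_option autoImplicit false

open MulAction

namespace CfsgLib.OddTransitive

section

variable {D E : Type*} [Group D] [Finite D] [AddCommGroup E] [Finite E] [DistribMulAction D E]

theorem exists_card_eq (hE : ∀ e : E, 2 • e = 0) (W : AddSubgroup E) : ∃ i, Nat.card W = 2 ^ i := by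
  have : Fact (Nat.Prime 2) := ⟨Nat.prime_two⟩
  have h : IsPGroup 2 (Multiplicative ↥W) := fun w => ⟨1, by
    apply Multiplicative.toAdd.injective
    apply Subtype.ext
    simpa using hE ((Multiplicative.toAdd w : ↥W) : E)⟩
  obtain ⟨i, hi⟩ := IsPGroup.iff_card.mp h
  exact ⟨i, (Nat.card_congr Multiplicative.ofAdd).trans hi⟩

/-- An additive subgroup invariant under an element of primitive prime order is trivial or all. -/
theorem eq_bot_or_top_of_invariant (hE : ∀ e : E, 2 • e = 0) [FaithfulSMul D E] {n r : ℕ}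
    [hr : Fact r.Prime] (hn : 0 < n)
    (hcard : Nat.card E = 2 ^ n) (hrd : r ∣ 2 ^ n - 1)
    (hmin : ∀ k, 0 < k → k < n → ¬ r ∣ 2 ^ k - 1) {x : D} (hx : orderOf x = r) (W : AddSubgroup E)
    (hW : ∀ w ∈ W, x • w ∈ W) : W = ⊥ ∨ W = ⊤ := by
  have hord := (Zsigmondy.dvd_sub_one_of_primitive two_pos hn hrd hmin).1
  have key : ∀ i ≤ n, ((2 : ℕ) : ZMod r) ^ i = 1 → i = 0 ∨ i = n := by
    intro i hi h
    rcases Nat.eq_zero_or_pos i with h0 | h0
    · exact Or.inl h0
    · refine Or.inr (le_antisymm hi ?_)
      rw [← hord]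
      exact orderOf_le_of_pow_eq_one h0 h
  have hpowle : ∀ {U : AddSubgroup E} {i : ℕ}, Nat.card U = 2 ^ i → i ≤ n := by
    intro U i hi
    exact (Nat.pow_le_pow_iff_right (le_refl 2)).mp
      (hi ▸ hcard ▸ Nat.card_le_card_of_injective (fun u : U => (u : E)) Subtype.val_injective)
  have hX : IsPGroup r (Subgroup.zpowers x) :=
    IsPGroup.of_card (n := 1) (by rw [Nat.card_zpowers, hx, pow_one])
  have hpow : ∀ (g : Subgroup.zpowers x) (w : E), w ∈ W → (g : D) • w ∈ W := by
    intro g w hw
    obtain ⟨k, hk⟩ := mem_powers_iff_mem_zpowers.mpr g.2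
    have hkk : x ^ k = (g : D) := hk
    rw [← hkk]
    clear hk hkk
    induction k with
    | zero => simpa using hw
    | succ k ih => rw [pow_succ', mul_smul]; exact hW _ ih
  -- the fixed subgroup
  let F : AddSubgroup E :=
    { carrier := {e | x • e = e}
      zero_mem' := smul_zero _
      add_mem' := fun {u v} hu hv => by
        simp only [Set.mem_ofPred_eq] at hu hv ⊢
        rw [smul_add, hu, hv]
      neg_mem' := fun {u} hu => by
        simp only [Set.mem_ofPred_eq] at hu ⊢
        rw [smul_neg, hu] }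
  have hfixE : fixedPoints (Subgroup.zpowers x) E = (F : Set E) := by
    ext e
    refine ⟨fun h => h ⟨x, Subgroup.mem_zpowers x⟩, fun h g => ?_⟩
    have h1 : x ∈ stabilizer D e := h
    exact Subgroup.zpowers_le.mpr h1 g.2
  have h2n : ((2 : ℕ) : ZMod r) ^ n = 1 := by rw [← hord]; exact pow_orderOf_eq_one _
  have hF : F = ⊥ := by
    obtain ⟨i, hi⟩ := exists_card_eq hE F
    have h := hX.card_modEq_card_fixedPoints (α := E)
    rw [hfixE, hcard, SetLike.coe_sort_coe, hi, ← ZMod.natCast_eq_natCast_iff, Nat.cast_pow,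
      Nat.cast_pow, h2n] at h
    rcases key i (hpowle hi) h.symm with h0 | h0
    · exact AddSubgroup.card_eq_one.mp (by rw [hi, h0, pow_zero])
    · exfalso
      have hT : F = ⊤ := AddSubgroup.eq_top_of_card_eq F (by rw [hi, h0, hcard])
      refine hr.out.ne_one (hx ▸ orderOf_eq_one_iff.mpr (FaithfulSMul.eq_of_smul_eq_smul fun e : E => ?_))
      rw [one_smul]
      exact (hT ▸ AddSubgroup.mem_top e : e ∈ F)
  let : MulAction (Subgroup.zpowers x) W :=
    { smul := fun g w => ⟨(g : D) • (w : E), hpow g w w.2⟩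
      one_smul := fun w => Subtype.ext (one_smul D (w : E))
      mul_smul := fun g h w => Subtype.ext (mul_smul (g : D) (h : D) (w : E)) }
  have hfixW : fixedPoints (Subgroup.zpowers x) W = {0} := by
    ext w
    refine ⟨fun h => ?_, fun h g => ?_⟩
    · have h1 : (w : E) ∈ F := congrArg Subtype.val (h ⟨x, Subgroup.mem_zpowers x⟩)
      rw [hF] at h1
      exact Subtype.ext h1
    · rw [Set.mem_singleton_iff.mp h]
      exact Subtype.ext (smul_zero (g : D))
  obtain ⟨i, hi⟩ := exists_card_eq hE W
  have h := hX.card_modEq_card_fixedPoints (α := W)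
  rw [hfixW, hi, Nat.card_coe_set_eq, Set.ncard_singleton, ← ZMod.natCast_eq_natCast_iff,
    Nat.cast_pow, Nat.cast_one] at h
  rcases key i (hpowle hi) h with h0 | h0
  · exact Or.inl (AddSubgroup.card_eq_one.mp (by rw [hi, h0, pow_zero]))
  · exact Or.inr (AddSubgroup.eq_top_of_card_eq W (by rw [hi, h0, hcard]))

omit [Finite E] in
/-- The centraliser of an element leaving invariant no proper subgroup is cyclic. -/
theorem isCyclic_centralizer [FaithfulSMul D E] [Nontrivial E] {x : D}
    (hirr : ∀ W : AddSubgroup E, (∀ w ∈ W, x • w ∈ W) → W = ⊥ ∨ W = ⊤) :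
    IsCyclic (Subgroup.centralizer ({x} : Set D)) := by
  obtain ⟨e, he⟩ := exists_ne (0 : E)
  let φ : D →* AddMonoid.End E := DistribMulAction.toAddMonoidEnd D E
  set R := Subring.closure ({φ x} : Set (AddMonoid.End E)) with hR
  have hxR : φ x ∈ R := Subring.subset_closure rfl
  have : IsMulCommutative R := Subring.isMulCommutative_closure (by
    intro a ha b hb
    rw [Set.mem_singleton_iff.mp ha, Set.mem_singleton_iff.mp hb])
  let : CommRing R := { (inferInstance : Ring R) with mul_comm := this.is_comm.comm }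
  have hcomm : ∀ P ∈ R, ∀ Q ∈ R, P * Q = Q * P := fun P hP Q hQ =>
    congrArg Subtype.val (mul_comm (⟨P, hP⟩ : R) ⟨Q, hQ⟩)
  have heval : ∀ f : AddMonoid.End E, f * φ x = φ x * f → f e = 0 → f = 0 := by
    intro f hf hfe
    rcases hirr (AddMonoidHom.ker (f : E →+ E)) (fun w hw => by
      have hw : f w = 0 := hw
      show (f * φ x) w = 0
      rw [hf]
      show φ x (f w) = 0
      rw [hw, map_zero]) with h | h
    · exact absurd (show e ∈ (⊥ : AddSubgroup E) from h ▸ (show e ∈ AddMonoidHom.ker (f : E →+ E) from hfe)) he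
    · exact AddMonoidHom.ext fun w => (h ▸ AddSubgroup.mem_top w : w ∈ AddMonoidHom.ker (f : E →+ E))
  -- every endomorphism commuting with `x` lies in the ring
  have hmem : ∀ f : AddMonoid.End E, f * φ x = φ x * f → f ∈ R := by
    intro f hf
    let ev : AddMonoid.End E →+ E :=
      { toFun := fun g => g e, map_zero' := rfl, map_add' := fun _ _ => rfl }
    rcases hirr (R.toAddSubgroup.map ev) (by
      rintro _ ⟨P, hP, rfl⟩
      exact ⟨φ x * P, R.mul_mem hxR hP, rfl⟩) with h | h
    · exfalso
      have h1 : e ∈ R.toAddSubgroup.map ev := ⟨1, R.one_mem, rfl⟩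
      rw [h] at h1
      exact he h1
    · obtain ⟨P, hP, hPe⟩ : f e ∈ R.toAddSubgroup.map ev := h ▸ AddSubgroup.mem_top _
      have h0 := heval (f - P) (by rw [sub_mul, mul_sub, hf, hcomm P hP _ hxR]) (by
        show f e - P e = 0
        rw [show P e = f e from hPe, sub_self])
      rw [sub_eq_zero.mp h0]
      exact hP
  have : NoZeroDivisors R := ⟨fun {P Q} hPQ => by
    by_cases hQ : (Q : AddMonoid.End E) e = 0
    · exact Or.inr (Subtype.ext (heval _ (hcomm _ Q.2 _ hxR) hQ))
    · refine Or.inl (Subtype.ext ?_)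
      rcases hirr (AddMonoidHom.ker ((P : AddMonoid.End E) : E →+ E)) (fun w hw => by
        have hw : (P : AddMonoid.End E) w = 0 := hw
        show ((P : AddMonoid.End E) * φ x) w = 0
        rw [hcomm _ P.2 _ hxR]
        show φ x ((P : AddMonoid.End E) w) = 0
        rw [hw, map_zero]) with h | h
      · exfalso
        have h1 : (Q : AddMonoid.End E) e ∈ AddMonoidHom.ker ((P : AddMonoid.End E) : E →+ E) :=
          DFunLike.congr_fun (congrArg Subtype.val hPQ) e
        rw [h] at h1
        exact hQ h1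
      · exact AddMonoidHom.ext fun w => (h ▸ AddSubgroup.mem_top w :
          w ∈ AddMonoidHom.ker ((P : AddMonoid.End E) : E →+ E))⟩
  have : Nontrivial R := ⟨⟨0, 1, fun h => he (DFunLike.congr_fun (congrArg Subtype.val h) e).symm⟩⟩
  have : IsDomain R := NoZeroDivisors.to_isDomain R
  let f : Subgroup.centralizer ({x} : Set D) →* R :=
    { toFun := fun c => ⟨φ c, hmem _ (by
        rw [← map_mul, ← map_mul, Subgroup.mem_centralizer_singleton_iff.mp c.2])⟩
      map_one' := Subtype.ext (map_one φ)
      map_mul' := fun c d => Subtype.ext (map_mul φ (c : D) (d : D)) }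
  refine isCyclic_of_injective_ringHom f fun c d h => Subtype.ext (FaithfulSMul.eq_of_smul_eq_smul fun w : E => ?_)
  exact DFunLike.congr_fun (congrArg Subtype.val h) w

end

end CfsgLib.OddTransitive
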