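import Cfsg.Agent.Lib.OddTransitive.Solvable
import Cfsg.Agent.Lib.RankOne.ConstStab
import Cfsg.Agent.Lib.Components.GenFitting
import Cfsg.Agent.Lib.Solvable.Core
import Cfsg.Prelude.Def_Solvable

/-!
# The Fitting subgroup of a transitive linear group of odd order
-/

set_option autoImplicit false

open MulAction

namespace CfsgLib.OddTransitive

variable {D E : Type*} [Group D] [Finite D] [AddCommGroup E] [Finite E] [Nontrivial E]
  [DistribMulAction D E]

omit [Finite D] [Finite E] [Nontrivial E] in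
theorem card_stabilizer_const (N : Subgroup D) [hN : N.Normal]
    (htrans : ∀ a b : E, a ≠ 0 → b ≠ 0 → ∃ d : D, d • a = b) (a b : E) (ha : a ≠ 0) (hb : b ≠ 0) :
    Nat.card (stabilizer N a) = Nat.card (stabilizer N b) := by
  obtain ⟨d, rfl⟩ := htrans a b ha hb
  let e : N ≃* N := MulAut.conjNormal d
  refine Nat.card_congr (e.toEquiv.subtypeEquiv fun k => ?_)
  show (k : D) • a = a ↔ (d * (k : D) * d⁻¹) • (d • a) = d • a
  rw [mul_smul, mul_smul, inv_smul_smul, smul_left_cancel_iff]

variable [FaithfulSMul D E]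

omit [Finite D] [FaithfulSMul D E] in
theorem exponent_two (hodd : Odd (Nat.card D)) {q : ℕ} (hq : q.Prime) (hE : ∀ e : E, q • e = 0)
    (htrans : ∀ a b : E, a ≠ 0 → b ≠ 0 → ∃ d : D, d • a = b) : q = 2 := by
  have : Finite D := Nat.finite_of_card_ne_zero (fun h => by simp [h] at hodd)
  by_contra h2
  have hqodd := hq.odd_of_ne_two h2
  obtain ⟨e, he⟩ := exists_ne (0 : E)
  have h : orbit D e = ({0} : Set E)ᶜ := by
    ext v
    refine ⟨?_, fun hv => htrans e v he hv⟩
    rintro ⟨d, rfl⟩ h0
    exact he (smul_left_cancel d (h0.trans (smul_zero d).symm))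
  have h1 := MulAction.index_stabilizer D e
  rw [h, Set.ncard_compl, Set.ncard_singleton] at h1
  have : Fact q.Prime := ⟨hq⟩
  have hp : IsPGroup q (Multiplicative E) := fun w => ⟨1, by
    apply Multiplicative.toAdd.injective
    simpa using hE (Multiplicative.toAdd w)⟩
  obtain ⟨k, hk⟩ := IsPGroup.iff_card.mp hp
  rw [Nat.card_congr (Multiplicative.toAdd (α := E))] at hk
  have h3 : Odd (Nat.card E - 1) := h1 ▸ hodd.of_dvd_nat (Subgroup.index_dvd_card _)
  rw [hk] at h3
  obtain ⟨u, hu⟩ := hqodd.pow (n := k)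
  rw [hu, Nat.add_sub_cancel] at h3
  exact (Nat.not_even_iff_odd.mpr h3) (even_two_mul u)

/-- The Fitting subgroup is cyclic, acts without fixed points, and has abelian quotient. -/
theorem fitting_structure (hodd : Odd (Nat.card D)) {q : ℕ} (hq : q.Prime)
    (hE : ∀ e : E, q • e = 0) (htrans : ∀ a b : E, a ≠ 0 → b ≠ 0 → ∃ d : D, d • a = b) :
    IsCyclic (Cfsg.fittingSubgroup D) ∧
      (∀ g ∈ Cfsg.fittingSubgroup D, g ≠ 1 → ∀ a : E, g • a = a → a = 0) ∧
      commutator D ≤ Cfsg.fittingSubgroup D := by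
  classical
  obtain rfl := exponent_two hodd hq hE htrans
  set F := Cfsg.fittingSubgroup D with hFdef
  have hFnil : Group.IsNilpotent F := CfsgLib.Solvable.fittingSubgroup_isNilpotent D
  have : Fact (Nat.Prime 2) := ⟨Nat.prime_two⟩
  have hFn : F.Normal := Subgroup.sSup_normal _ fun N hN => hN.1
  have key : ∀ (p : ℕ) [Fact p.Prime] (P : Sylow p F), IsCyclic (P : Subgroup F) ∧
      ∀ w ∈ (P : Subgroup F), w ≠ 1 → ∀ a : E, (w : D) • a = a → a = 0 := by
    intro p hp P
    by_cases hbot : (P : Subgroup F) = ⊥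
    · refine ⟨?_, fun w hw hw1 => absurd (by rw [hbot] at hw; exact Subgroup.mem_bot.mp hw) hw1⟩
      rw [hbot]
      exact isCyclic_of_subsingleton
    have hp2 : p ≠ 2 := by
      rintro rfl
      obtain ⟨k, hk⟩ := IsPGroup.iff_card.mp P.2
      have hk0 : k ≠ 0 := fun h => hbot (Subgroup.card_eq_one.mp (by rw [hk, h, pow_zero]))
      have h1 : 2 ∣ Nat.card D :=
        (dvd_pow_self 2 hk0).trans (hk ▸ (Subgroup.card_subgroup_dvd_card _).trans (Subgroup.card_subgroup_dvd_card F))
      exact Nat.not_even_iff_odd.mpr hodd (even_iff_two_dvd.mpr h1)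
    have hiff := (Group.isNilpotent_of_finite_tfae (G := F)).out 0 3
    have hPn : (P : Subgroup F).Normal := hiff.1 hFnil p hp P
    have hPc : (P : Subgroup F).Characteristic := P.characteristic_of_normal hPn
    let P' : Subgroup D := (P : Subgroup F).map F.subtype
    have hP'n : P'.Normal := ConjAct.normal_of_characteristic_of_normal
    have hP' : IsPGroup p P' := P.2.map _
    have : FaithfulSMul P' E := ⟨fun {u v} h => Subtype.ext (FaithfulSMul.eq_of_smul_eq_smul h)⟩
    have h := CfsgLib.RankOne.ConstStab.isCyclic_and_fpf (P := P') (E := E) hP' hq hE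
      (fun a b ha hb => card_stabilizer_const P' htrans a b ha hb) hp2
    refine ⟨?_, fun w hw hw1 => h.2 ⟨(w : D), w, hw, rfl⟩ fun e => hw1 (Subtype.ext (congrArg Subtype.val e : (w : D) = 1))⟩
    have := h.1
    exact isCyclic_of_injective ((P : Subgroup F).equivMapOfInjective F.subtype F.subtype_injective).toMonoidHom
      (MulEquiv.injective _)
  have hcyc : IsCyclic F := by
    have : IsZGroup F := ⟨fun p hp P => haveI := Fact.mk hp; (key p P).1⟩
    exact inferInstance
  refine ⟨hcyc, fun g hg hg1 a ha => ?_, ?_⟩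
  · obtain ⟨p, hp, hpd⟩ := (orderOf g).exists_prime_and_dvd (fun h => hg1 (orderOf_eq_one_iff.mp h))
    have : Fact p.Prime := ⟨hp⟩
    have hw : orderOf (g ^ (orderOf g / p)) = p := orderOf_pow_orderOf_div (orderOf_pos g).ne' hpd
    let w : F := ⟨g ^ (orderOf g / p), F.pow_mem hg _⟩
    have hwp : IsPGroup p (Subgroup.zpowers w) := IsPGroup.of_card (n := 1) (by
      rw [Nat.card_zpowers, ← Subgroup.orderOf_coe, hw, pow_one])
    obtain ⟨P, hP⟩ := hwp.exists_le_sylow
    refine (key p P).2 w (hP (Subgroup.mem_zpowers w)) (fun h => hp.ne_one (by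
      rw [← hw, show g ^ (orderOf g / p) = (1 : D) from congrArg Subtype.val h, orderOf_one])) a ?_
    show g ^ (orderOf g / p) • a = a
    exact MulAction.mem_stabilizer_iff.mp ((stabilizer D a).pow_mem ha _)
  · have hsol : Group.IsSolvable D := isSolvable hodd hE htrans
    have hC : Subgroup.centralizer (F : Set D) ≤ F :=
      CfsgLib.Components.centralizer_fitting_le_of_isSolvable
    let f : D →* MulAut F := MulAut.conjNormal
    have hcomm : ∀ u v : MulAut F, u * v = v * u := fun u v =>
      (IsCyclic.mulAutMulEquiv F).injective (by rw [map_mul, map_mul, mul_comm])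
    refine le_trans ?_ hC
    have h1 : commutator D ≤ f.ker := by
      rw [commutator_def, Subgroup.commutator_le]
      intro u _ v _
      rw [MonoidHom.mem_ker, commutatorElement_def, map_mul, map_mul, map_mul, map_inv, map_inv,
        hcomm (f u) (f v)]
      simp [mul_assoc]
    refine h1.trans fun g hg => Subgroup.mem_centralizer_iff.mpr fun y hy => ?_
    have h2 : g * y * g⁻¹ = y :=
      congrArg Subtype.val (DFunLike.congr_fun (MonoidHom.mem_ker.mp hg) (⟨y, hy⟩ : F))
    exact (mul_inv_eq_iff_eq_mul.mp h2).symm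

end CfsgLib.OddTransitive
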