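import Cfsg.Agent.Lib.Frobenius.FpfRep
import Cfsg.Agent.Lib.DefectOne.WittEmbed
import Mathlib.NumberTheory.Padics.ProperSpace
import Mathlib.Analysis.Normed.Group.Ultra
import Mathlib.RingTheory.WittVector.Compare
import Mathlib.RepresentationTheory.Basic
import Mathlib.LinearAlgebra.Matrix.ToLin

/-!
# Lifting a representation of a group of odd order from the field with two elements to `ℂ`

A compatible system of lifts modulo all powers of two is found by compactness of the two-adic
integers, which embed into `ℂ`.  A subgroup without fixed vectors keeps this property.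
-/

set_option autoImplicit false

open Matrix

namespace CfsgLib.OddTransitive

variable {G : Type*} [Group G] [Finite G] {n : ℕ}

theorem exists_padic_lift (hodd : Odd (Nat.card G))
    (M : G →* Matrix (Fin n) (Fin n) (ZMod 2)) :
    ∃ L : G →* Matrix (Fin n) (Fin n) ℤ_[2], ∀ g, (L g).map PadicInt.toZMod = M g := by
  classical
  have hnd : ¬ 2 ∣ Nat.card G := Nat.two_dvd_ne_zero.mpr (Nat.odd_iff.mp hodd)
  let S : ℕ → Set (G → Fin n → Fin n → ℤ_[2]) := fun k =>
    {f | (∀ i j, f 1 i j = (1 : Matrix (Fin n) (Fin n) ℤ_[2]) i j) ∧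
      (∀ g i j, ‖f g i j - ((M g i j).val : ℤ_[2])‖ ≤ ((2 : ℕ) : ℝ) ^ (-(1 : ℕ) : ℤ)) ∧
      ∀ g h i j, ‖f (g * h) i j - ∑ l, f g i l * f h l j‖ ≤ ((2 : ℕ) : ℝ) ^ (-(k : ℕ) : ℤ)}
  have hclosed : ∀ k, IsClosed (S k) := fun k => by
    simp only [S, Set.ofPred_and, Set.ofPred_forall]
    refine IsClosed.inter ?_ (IsClosed.inter ?_ ?_)
    · exact isClosed_iInter fun i => isClosed_iInter fun j => isClosed_eq (by fun_prop) continuous_const
    · exact isClosed_iInter fun g => isClosed_iInter fun i => isClosed_iInter fun j =>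
        isClosed_le (by fun_prop) continuous_const
    · exact isClosed_iInter fun g => isClosed_iInter fun h => isClosed_iInter fun i =>
        isClosed_iInter fun j => isClosed_le (by fun_prop) continuous_const
  have hne : ∀ k, (S k).Nonempty := by
    intro k
    obtain ⟨σ, hσ⟩ := CfsgLib.Frobenius.exists_lift 2 k n hnd M.toHomUnits
    have : NeZero (2 ^ (k + 1)) := ⟨pow_ne_zero _ two_ne_zero⟩
    have : Fact (1 < 2 ^ (k + 1)) := ⟨Nat.one_lt_two_pow (by omega)⟩
    refine ⟨fun g i j => (((σ g : Matrix (Fin n) (Fin n) (ZMod (2 ^ (k + 1)))) i j).val : ℤ_[2]), fun i j => ?_, fun g i j => ?_,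
      fun g h i j => ?_⟩
    · simp only [map_one, Units.val_one]
      by_cases hij : i = j
      · subst hij
        rw [Matrix.one_apply_eq, Matrix.one_apply_eq, ZMod.val_one, Nat.cast_one]
      · rw [Matrix.one_apply_ne hij, Matrix.one_apply_ne hij, ZMod.val_zero, Nat.cast_zero]
    · have h1 : (M g i j) = ((((σ g : Matrix (Fin n) (Fin n) (ZMod (2 ^ (k + 1)))) i j).val : ℕ) : ZMod 2) := by
        have h2 := congrFun (congrFun (hσ g) i) j
        rw [Matrix.map_apply, ZMod.castHom_apply, ← ZMod.natCast_val] at h2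
        exact h2.symm
      rw [PadicInt.norm_le_pow_iff_mem_span_pow, Nat.cast_ofNat, pow_one]
      have h3 : (((σ g : Matrix (Fin n) (Fin n) (ZMod (2 ^ (k + 1)))) i j).val : ℤ_[2]) - ((M g i j).val : ℤ_[2]) ∈
          RingHom.ker (PadicInt.toZMod : ℤ_[2] →+* ZMod 2) := by
        rw [RingHom.mem_ker, map_sub, map_natCast, map_natCast, ← h1, ZMod.natCast_zmod_val, sub_self]
      rw [PadicInt.ker_toZMod, PadicInt.maximalIdeal_eq_span_p] at h3
      simpa using h3
    · refine le_trans ?_ (zpow_le_zpow_right₀ (by norm_num)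
        (show (-((k + 1 : ℕ)) : ℤ) ≤ (-(k : ℕ) : ℤ) by omega))
      have h3 : (((σ (g * h) : Matrix (Fin n) (Fin n) (ZMod (2 ^ (k + 1)))) i j).val : ℤ_[2]) -
          ∑ l, (((σ g : Matrix (Fin n) (Fin n) (ZMod (2 ^ (k + 1)))) i l).val : ℤ_[2]) * (((σ h : Matrix (Fin n) (Fin n) (ZMod (2 ^ (k + 1)))) l j).val : ℤ_[2]) ∈
          RingHom.ker (PadicInt.toZModPow (p := 2) (k + 1)) := by
        simp only [RingHom.mem_ker, map_sub, map_sum, map_mul, map_natCast, ZMod.natCast_zmod_val,
          Units.val_mul, Matrix.mul_apply, sub_self]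
      rw [PadicInt.ker_toZModPow] at h3
      exact (PadicInt.norm_le_pow_iff_mem_span_pow _ _).mpr h3
  obtain ⟨f, hf⟩ := IsCompact.nonempty_iInter_of_sequence_nonempty_isCompact_isClosed S
    (fun k f hf => ⟨hf.1, hf.2.1, fun g h i j => (hf.2.2 g h i j).trans
      (zpow_le_zpow_right₀ (by norm_num) (by omega))⟩) hne (hclosed 0).isCompact hclosed
  rw [Set.mem_iInter] at hf
  refine ⟨{ toFun := fun g => Matrix.of (f g)
            map_one' := Matrix.ext fun i j => (hf 0).1 i j
            map_mul' := fun g h => Matrix.ext fun i j => ?_ }, fun g => ?_⟩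
  · rw [Matrix.mul_apply]
    simp only [Matrix.of_apply]
    refine sub_eq_zero.mp (norm_le_zero_iff.mp ?_)
    refine le_of_forall_pos_le_add fun ε hε => ?_
    obtain ⟨k, hk⟩ := PadicInt.exists_pow_neg_lt 2 hε
    rw [zero_add]
    exact le_of_lt (lt_of_le_of_lt ((hf k).2.2 g h i j) (by exact_mod_cast hk))
  · ext i j
    show PadicInt.toZMod (f g i j) = M g i j
    have h1 := (hf 0).2.1 g i j
    rw [PadicInt.norm_le_pow_iff_mem_span_pow, Nat.cast_ofNat, pow_one] at h1
    have h2 : f g i j - ((M g i j).val : ℤ_[2]) ∈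
        RingHom.ker (PadicInt.toZMod : ℤ_[2] →+* ZMod 2) := by
      rw [PadicInt.ker_toZMod, PadicInt.maximalIdeal_eq_span_p]
      simpa using h1
    rwa [RingHom.mem_ker, map_sub, map_natCast, ZMod.natCast_zmod_val, sub_eq_zero] at h2

/-- The two-adic integers as a subring of the complex numbers. -/
noncomputable def padicEmb : ℤ_[2] →+* ℂ :=
  ((CfsgLib.DefectOne.emb 2).comp (WittVector.map (algebraMap (ZMod 2) (CfsgLib.DefectOne.kbar 2)))).comp
    (WittVector.equiv 2).symm.toRingHom

theorem padicEmb_injective : Function.Injective padicEmb :=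
  ((CfsgLib.DefectOne.emb_injective 2).comp
    (WittVector.map_injective _ (algebraMap (ZMod 2) (CfsgLib.DefectOne.kbar 2)).injective)).comp
    (WittVector.equiv 2).symm.injective

/-- An integral matrix which is even and whose square is an odd multiple of itself vanishes. -/
theorem eq_zero_of_mul_self {S : Matrix (Fin n) (Fin n) ℤ_[2]} {m : ℕ} (hm : Odd m)
    (hS : S * S = m • S) (h0 : S.map PadicInt.toZMod = 0) : S = 0 := by
  classical
  by_contra hne
  obtain ⟨a, b, hab⟩ : ∃ a b, S a b ≠ 0 := by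
    by_contra h
    push Not at h
    exact hne (Matrix.ext h)
  have : Nonempty (Fin n × Fin n) := ⟨(a, b)⟩
  obtain ⟨⟨i, j⟩, hmax⟩ := Finite.exists_max (fun p : Fin n × Fin n => ‖S p.1 p.2‖)
  have hpos : 0 < ‖S i j‖ := lt_of_lt_of_le (norm_pos_iff.mpr hab) (hmax (a, b))
  have hlt : ‖S i j‖ < 1 := by
    rw [PadicInt.norm_lt_one_iff_dvd]
    have h1 : S i j ∈ RingHom.ker (PadicInt.toZMod : ℤ_[2] →+* ZMod 2) := congrFun (congrFun h0 i) j
    rwa [PadicInt.ker_toZMod, PadicInt.maximalIdeal_eq_span_p, Ideal.mem_span_singleton] at h1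
  have hmu : ‖(m : ℤ_[2])‖ = 1 := by
    refine le_antisymm (PadicInt.norm_le_one _) (not_lt.mp fun h => ?_)
    have h1 : (m : ℤ_[2]) ∈ RingHom.ker (PadicInt.toZMod : ℤ_[2] →+* ZMod 2) := by
      rw [PadicInt.ker_toZMod, PadicInt.maximalIdeal_eq_span_p, Ideal.mem_span_singleton]
      exact (PadicInt.norm_lt_one_iff_dvd _).mp h
    rw [RingHom.mem_ker, map_natCast, ZMod.natCast_eq_zero_iff] at h1
    exact (Nat.not_even_iff_odd.mpr hm) (even_iff_two_dvd.mpr h1)
  have h2 : ‖S i j‖ = ‖∑ l, S i l * S l j‖ := by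
    rw [← Matrix.mul_apply, hS, Matrix.smul_apply, nsmul_eq_mul, norm_mul, hmu, one_mul]
  have h3 : ‖∑ l, S i l * S l j‖ ≤ ‖S i j‖ * ‖S i j‖ :=
    IsUltrametricDist.norm_sum_le_of_forall_le_of_nonneg (mul_nonneg (norm_nonneg _) (norm_nonneg _))
      fun l _ => by
        rw [norm_mul]
        exact mul_le_mul (hmax (i, l)) (hmax (l, j)) (norm_nonneg _) (norm_nonneg _)
  rw [← h2] at h3
  nlinarith

/-- A group of odd order in `GL_n(2)` has a faithful complex representation of degree `n`, in which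
subgroups without fixed vectors have none. -/
theorem exists_complex_lift (hodd : Odd (Nat.card G)) (M : G →* Matrix (Fin n) (Fin n) (ZMod 2))
    (hinj : Function.Injective M) :
    ∃ ρ : Representation ℂ G (Fin n → ℂ), Function.Injective ρ ∧
      ∀ K : Subgroup G, (∀ v, (∀ k ∈ K, M k *ᵥ v = v) → v = 0) →
        ∀ v : Fin n → ℂ, (∀ k ∈ K, ρ k v = v) → v = 0 := by
  classical
  obtain ⟨L, hL⟩ := exists_padic_lift hodd M
  let ρ : Representation ℂ G (Fin n → ℂ) :=
    (((Matrix.toLinAlgEquiv' : Matrix (Fin n) (Fin n) ℂ ≃ₐ[ℂ] _).toMulEquiv.toMonoidHom).comp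
      (padicEmb.mapMatrix (m := Fin n)).toMonoidHom).comp L
  have hρ : ∀ g v, ρ g v = (L g).map padicEmb *ᵥ v := fun g v => by
    simp [ρ, Matrix.toLinAlgEquiv'_apply]
  refine ⟨ρ, fun g g' hgg => hinj ?_, fun K hK v hv => ?_⟩
  · have h1 : (L g).map padicEmb = (L g').map padicEmb :=
      Matrix.ext_of_mulVec_single fun i => by rw [← hρ, ← hρ, hgg]
    rw [← hL, ← hL, Matrix.map_injective padicEmb_injective h1]
  · have : Fintype K := Fintype.ofFinite _
    set S : Matrix (Fin n) (Fin n) ℤ_[2] := ∑ k : K, L k with hSdef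
    have hkS : ∀ k : K, L k * S = S := fun k => by
      rw [hSdef, Finset.mul_sum]
      exact Fintype.sum_equiv (Equiv.mulLeft k) _ _ fun x => by
        simp [← map_mul]
    have hSS : S * S = Nat.card K • S := by
      conv_lhs => rw [hSdef, Finset.sum_mul]
      rw [← hSdef, Finset.sum_congr rfl (fun k _ => hkS k), Finset.sum_const, Finset.card_univ,
        Nat.card_eq_fintype_card]
    have hmodd : Odd (Nat.card K) := hodd.of_dvd_nat (Subgroup.card_subgroup_dvd_card K)
    have h0 : S.map PadicInt.toZMod = 0 := by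
      refine Matrix.ext_of_mulVec_single fun i => ?_
      rw [Matrix.zero_mulVec]
      refine hK _ fun k hk => ?_
      rw [Matrix.mulVec_mulVec, ← hL, ← Matrix.map_mul]
      exact congrArg (fun A : Matrix (Fin n) (Fin n) ℤ_[2] => A.map PadicInt.toZMod *ᵥ Pi.single i 1) (hkS ⟨k, hk⟩)
    have hS0 := eq_zero_of_mul_self hmodd hSS h0
    have h1 : (∑ k : K, ρ (k : G) v) = (S.map padicEmb) *ᵥ v := by
      rw [hSdef, show (∑ k : K, L k).map padicEmb = padicEmb.mapMatrix (∑ k : K, L k) from rfl,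
        map_sum, Matrix.sum_mulVec]
      exact Finset.sum_congr rfl fun k _ => by rw [hρ]; rfl
    rw [hS0, Matrix.map_zero _ (map_zero _), Matrix.zero_mulVec,
      Finset.sum_congr rfl (fun (k : K) _ => hv k k.2), Finset.sum_const, Finset.card_univ,
      ← Nat.cast_smul_eq_nsmul ℂ] at h1
    exact (smul_eq_zero.mp h1).resolve_left (Nat.cast_ne_zero.mpr Fintype.card_ne_zero)

end CfsgLib.OddTransitive
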