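import Cfsg.Agent.Lib.OddTransitive.Lift
import Cfsg.Agent.Lib.OddTransitive.Singer
import Cfsg.Agent.Lib.Char.Kernel
import Cfsg.Agent.Lib.Char.Burnside
import Cfsg.Agent.Lib.CharTools.Basic
import Cfsg.Agent.S4485
import Cfsg.Agent.S4503
import Cfsg.Agent.S4504

/-!
# Groups of odd order transitive on the nonzero vectors of a space over the field with two elements

Such a group is solvable.  A lifted complex representation and the degree bounds of Brauer and
Feit make the Sylow subgroup for a primitive prime divisor normal.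
-/

set_option autoImplicit false

open MulAction
open scoped Matrix

namespace CfsgLib.OddTransitive

section bounds

theorem even_card_psl_two (r : ℕ) [Fact r.Prime] :
    Even (Nat.card (Matrix.ProjectiveSpecialLinearGroup (Fin 2) (ZMod r))) := by
  let S : Matrix.SpecialLinearGroup (Fin 2) (ZMod r) :=
    ⟨!![0, 1; -1, 0], by simp [Matrix.det_fin_two]⟩
  let T : Matrix.SpecialLinearGroup (Fin 2) (ZMod r) :=
    ⟨!![1, 1; 0, 1], by simp [Matrix.det_fin_two]⟩
  have hS : S ∉ Subgroup.center (Matrix.SpecialLinearGroup (Fin 2) (ZMod r)) := by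
    intro h
    have h1 := congrArg (fun A : Matrix.SpecialLinearGroup (Fin 2) (ZMod r) =>
      (A : Matrix (Fin 2) (Fin 2) (ZMod r)) 0 0) (Subgroup.mem_center_iff.mp h T)
    simp only [Matrix.SpecialLinearGroup.coe_mul] at h1
    simp [S, T, Matrix.mul_apply, Fin.sum_univ_two] at h1
  have hSS : S * S ∈ Subgroup.center (Matrix.SpecialLinearGroup (Fin 2) (ZMod r)) := by
    have hcoe : ((S * S : Matrix.SpecialLinearGroup (Fin 2) (ZMod r)) :
        Matrix (Fin 2) (Fin 2) (ZMod r)) = -1 := by
      rw [Matrix.SpecialLinearGroup.coe_mul]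
      ext i j
      fin_cases i <;> fin_cases j <;> simp [S, Matrix.mul_apply, Fin.sum_univ_two]
    refine Subgroup.mem_center_iff.mpr fun g => Subtype.ext ?_
    simp only [Matrix.SpecialLinearGroup.coe_mul] at hcoe ⊢
    rw [hcoe, neg_mul, mul_neg, one_mul, mul_one]
  set q : Matrix.ProjectiveSpecialLinearGroup (Fin 2) (ZMod r) := QuotientGroup.mk S with hq
  have h1 : q ≠ 1 := fun h => hS ((QuotientGroup.eq_one_iff S).mp h)
  have h3 : q * q = 1 := (QuotientGroup.eq_one_iff (S * S)).mpr hSS
  have h4 : orderOf q = 2 := orderOf_eq_prime (by rw [sq, h3]) h1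
  have h5 := orderOf_dvd_natCard q
  rw [h4] at h5
  exact even_iff_two_dvd.mpr h5

end bounds

section group

variable {D : Type*} [Group D] [Finite D]

omit [Finite D] in
/-- A group with a normal cyclic subgroup of commutative centraliser is solvable. -/
theorem isSolvable_of_cyclic_normal (N : Subgroup D) [N.Normal] [IsCyclic N]
    (hC : ∀ a ∈ Subgroup.centralizer (N : Set D), ∀ b ∈ Subgroup.centralizer (N : Set D),
      a * b = b * a) : Group.IsSolvable D := by
  let f : D →* MulAut N := MulAut.conjNormal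
  have hker : f.ker = Subgroup.centralizer (N : Set D) := by
    ext g
    rw [MonoidHom.mem_ker, Subgroup.mem_centralizer_iff]
    refine ⟨fun h y hy => ?_, fun h => MulEquiv.ext fun y => Subtype.ext ?_⟩
    · have h1 : g * y * g⁻¹ = y := congrArg Subtype.val (DFunLike.congr_fun h (⟨y, hy⟩ : N))
      exact (mul_inv_eq_iff_eq_mul.mp h1).symm
    · show g * (y : D) * g⁻¹ = y
      exact mul_inv_eq_iff_eq_mul.mpr (h _ y.2).symm
  have hA : Group.IsSolvable (MulAut N) := by
    let e := IsCyclic.mulAutMulEquiv N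
    exact Group.isSolvable_of_isSolvable_injective (f := e.toMonoidHom) e.injective
  have hK : Group.IsSolvable f.ker := by
    rw [hker]
    exact Group.isSolvable_of_comm fun a b => Subtype.ext (hC a a.2 b b.2)
  exact Group.isSolvable_of_ker_le_range f.ker.subtype f (by rw [Subgroup.range_subtype])

/-- If a Sylow subgroup of order `5` lies in a group of odd order, it has a normal complement. -/
theorem exists_normal_index_five (hodd : Odd (Nat.card D)) (P : Sylow 5 D)
    (hP : Nat.card (P : Subgroup D) = 5) :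
    ∃ K : Subgroup D, K.Normal ∧ K.index = 5 := by
  have : Fact (Nat.Prime 5) := ⟨by norm_num⟩
  have : IsCyclic (P : Subgroup D) := isCyclic_of_prime_card hP
  have hN : Subgroup.normalizer ((P : Subgroup D) : Set D) ≤
      Subgroup.centralizer ((P : Subgroup D) : Set D) := by
    intro g hg
    let f : Subgroup.normalizer ((P : Subgroup D) : Set D) →* MulAut (P : Subgroup D) :=
      (P : Subgroup D).normalizerMonoidHom
    have h1 : orderOf (f ⟨g, hg⟩) ∣ Nat.gcd 4 (Nat.card D) := by
      refine Nat.dvd_gcd ?_ ?_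
      · have h2 := orderOf_dvd_natCard (f ⟨g, hg⟩)
        rwa [IsCyclic.card_mulAut, hP, Nat.totient_prime (by norm_num)] at h2
      · exact (orderOf_map_dvd f ⟨g, hg⟩).trans (by rw [Subgroup.orderOf_mk]; exact orderOf_dvd_natCard g)
    rw [(Nat.Coprime.pow_left 2 (Nat.coprime_two_left.mpr hodd) : Nat.Coprime (2 ^ 2) _),
      Nat.dvd_one, orderOf_eq_one_iff] at h1
    rw [Subgroup.mem_centralizer_iff]
    intro y hy
    have h3 : g * y * g⁻¹ = y := congrArg Subtype.val (DFunLike.congr_fun h1 (⟨y, hy⟩ : (P : Subgroup D)))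
    exact (mul_inv_eq_iff_eq_mul.mp h3).symm
  exact ⟨(MonoidHom.transferSylow P hN).ker, inferInstance,
    ((MonoidHom.ker_transferSylow_isComplement' P hN).symm.index_eq_card).trans hP⟩

end group

section main

variable {D E : Type*} [Group D] [Finite D] [AddCommGroup E] [Finite E] [DistribMulAction D E]
  [FaithfulSMul D E]

omit [Finite D] [Finite E] in
/-- A normal subgroup fixing a nonzero vector is trivial when the group is transitive. -/
theorem eq_bot_of_fixed (htrans : ∀ a b : E, a ≠ 0 → b ≠ 0 → ∃ d : D, d • a = b)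
    (K : Subgroup D) [hK : K.Normal] {e : E} (he : e ≠ 0) (hfix : ∀ k ∈ K, k • e = e) : K = ⊥ := by
  rw [eq_bot_iff]
  intro k hk
  rw [Subgroup.mem_bot]
  refine FaithfulSMul.eq_of_smul_eq_smul fun v : E => ?_
  rw [one_smul]
  by_cases hv : v = 0
  · rw [hv, smul_zero]
  obtain ⟨d, hd⟩ := htrans e v he hv
  have h1 := hfix (d⁻¹ * k * d) (by simpa using hK.conj_mem k hk d⁻¹)
  rwa [mul_smul, mul_smul, inv_smul_eq_iff, hd] at h1

omit [Finite D] [FaithfulSMul D E] in
theorem two_pow_sub_one_dvd [Nontrivial E]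
    (htrans : ∀ a b : E, a ≠ 0 → b ≠ 0 → ∃ d : D, d • a = b) {n : ℕ} (hn : Nat.card E = 2 ^ n) :
    2 ^ n - 1 ∣ Nat.card D := by
  obtain ⟨e, he⟩ := exists_ne (0 : E)
  have h : orbit D e = ({0} : Set E)ᶜ := by
    ext v
    refine ⟨?_, fun hv => htrans e v he hv⟩
    rintro ⟨d, rfl⟩ h0
    exact he (smul_left_cancel d (h0.trans (smul_zero d).symm))
  have h1 := MulAction.index_stabilizer D e
  rw [h, Set.ncard_compl, Set.ncard_singleton, hn] at h1
  exact h1 ▸ Subgroup.index_dvd_card _

variable (hodd : Odd (Nat.card D)) (hE : ∀ e : E, 2 • e = 0)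
  (htrans : ∀ a b : E, a ≠ 0 → b ≠ 0 → ∃ d : D, d • a = b)

include hodd hE htrans

theorem exists_rep {n : ℕ} (hn : Nat.card E = 2 ^ n) :
    Nat.card D ∣ Nat.card (GL (Fin n) (ZMod 2)) ∧
    ∃ ρ : Representation ℂ D (Fin n → ℂ), Function.Injective ρ ∧
      ∀ K : Subgroup D, K.Normal → ∀ v : Fin n → ℂ, v ≠ 0 → (∀ k ∈ K, ρ k v = v) → K = ⊥ := by
  classical
  let : Module (ZMod 2) E := AddCommGroup.zmodModule (n := 2) hE
  have : FiniteDimensional (ZMod 2) E := Module.Finite.of_finite
  have hfr : Module.finrank (ZMod 2) E = n := by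
    have h := Module.natCard_eq_pow_finrank (K := ZMod 2) (V := E)
    rw [hn, Nat.card_zmod] at h
    exact (Nat.pow_right_injective (le_refl 2) h).symm
  let b := Module.finBasisOfFinrankEq (ZMod 2) E hfr
  let act : D →* Module.End (ZMod 2) E :=
    { toFun := fun g => (DistribSMul.toAddMonoidHom E g).toZModLinearMap 2
      map_one' := LinearMap.ext fun w => one_smul D w
      map_mul' := fun g g' => LinearMap.ext fun w => mul_smul g g' w }
  let M : D →* Matrix (Fin n) (Fin n) (ZMod 2) :=
    (LinearMap.toMatrixAlgEquiv b).toRingEquiv.toRingHom.toMonoidHom.comp act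
  have hM : ∀ g w, M g *ᵥ b.equivFun w = b.equivFun (g • w) := fun g w =>
    LinearMap.toMatrix_mulVec_repr b b (act g) w
  have hinj : Function.Injective M := fun g g' h => FaithfulSMul.eq_of_smul_eq_smul fun w : E =>
    b.equivFun.injective (by rw [← hM, ← hM, h])
  obtain ⟨ρ, hρ, hfix⟩ := exists_complex_lift hodd M hinj
  refine ⟨Subgroup.card_dvd_of_injective M.toHomUnits fun g g' h => hinj (congrArg Units.val h),
    ρ, hρ, fun K hK v hv hKv => ?_⟩
  by_contra hne
  refine hv (hfix K (fun w hw => ?_) v hKv)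
  by_contra hw0
  refine hne (eq_bot_of_fixed htrans K (e := b.equivFun.symm w)
    (fun h => hw0 (by rw [← b.equivFun.apply_symm_apply w, h, map_zero])) fun k hk => ?_)
  refine b.equivFun.injective ?_
  rw [← hM, LinearEquiv.apply_symm_apply, hw k hk]

/-- A faithful character of degree small against a primitive prime. -/
theorem exists_small_character {n : ℕ} (hn : Nat.card E = 2 ^ n) (hn1 : 0 < n) :
    ∃ χ : D → ℂ, Cfsg.IsCharacter D χ ∧ (∀ g, χ g = χ 1 → g = 1) ∧ 0 < Cfsg.charDegree χ ∧
      (Cfsg.charDegree χ = n ∨ Even n) ∧ Cfsg.charDegree χ ≤ n ∧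
      (Even n → 2 * Cfsg.charDegree χ ≤ n) := by
  classical
  obtain ⟨-, ρ, hρ, hfix⟩ := exists_rep hodd hE htrans hn
  have hfr : Module.finrank ℂ (Fin n → ℂ) = n := Module.finrank_fin_fun ℂ
  by_cases he : Even n
  · have hnirr : ¬ ρ.IsIrreducible := fun h => by
      have h1 := CharTools.degree_dvd_card (⟨ρ.character, n, ρ, h, rfl⟩ : Cfsg.IrrCharacter D)
      rw [show Cfsg.charDegree ρ.character = n from (Char.degree_character ρ).trans hfr] at h1
      exact (Nat.not_even_iff_odd.mpr hodd) (even_iff_two_dvd.mpr (he.two_dvd.trans h1))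
    have : Nontrivial (Fin n → ℂ) := Module.nontrivial_of_finrank_pos (R := ℂ) (by rw [hfr]; exact hn1)
    obtain ⟨W, hW, hWb, hWt⟩ : ∃ W : Submodule ℂ (Fin n → ℂ),
        (∀ g, ∀ v ∈ W, ρ g v ∈ W) ∧ W ≠ ⊥ ∧ W ≠ ⊤ := by
      by_contra h
      push Not at h
      exact hnirr (CharKernel.isIrreducible_of_forall ρ fun W hW =>
        (em (W = ⊥)).imp_right fun hb => h W hW hb)
    obtain ⟨W', hW', hc⟩ := CharKernel.exists_invariant_compl ρ W hW
    have hsum := Submodule.finrank_add_eq_of_isCompl hc
    rw [hfr] at hsum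
    have hW'b : W' ≠ ⊥ := fun h => hWt (by simpa [h] using hc.sup_eq_top)
    obtain ⟨U, hU, hUb, hUd⟩ : ∃ U : Submodule ℂ (Fin n → ℂ),
        (∀ g, ∀ v ∈ U, ρ g v ∈ U) ∧ U ≠ ⊥ ∧ 2 * Module.finrank ℂ U ≤ n := by
      rcases le_total (Module.finrank ℂ W) (Module.finrank ℂ W') with h | h
      · exact ⟨W, hW, hWb, by omega⟩
      · exact ⟨W', hW', hW'b, by omega⟩
    let σ : Representation ℂ D U := (⟨U, fun g v hv => hU g v hv⟩ : Subrepresentation ρ).toRepresentation
    have hdeg : Cfsg.charDegree σ.character = Module.finrank ℂ U := Char.degree_character σ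
    have hpos : 0 < Module.finrank ℂ U :=
      Nat.pos_of_ne_zero fun h => hUb (Submodule.finrank_eq_zero.mp h)
    refine ⟨σ.character, Char.isCharacter_character σ, fun g hg => ?_, hdeg ▸ hpos, Or.inr he,
      by omega, fun _ => by omega⟩
    obtain ⟨v, hv, hv0⟩ := Submodule.exists_mem_ne_zero_of_ne_bot hUb
    have hK := hfix (MonoidHom.ker σ) inferInstance v hv0 fun k hk =>
      congrArg Subtype.val (LinearMap.congr_fun (MonoidHom.mem_ker.mp hk) ⟨v, hv⟩)
    have h1 : σ g = 1 := by
      have := (Char.character_eq_degree_iff σ g).mp (by rw [hg, Representation.char_one])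
      exact this
    exact (Subgroup.mem_bot).mp (hK ▸ MonoidHom.mem_ker.mpr h1)
  · have hdeg : Cfsg.charDegree ρ.character = n := (Char.degree_character ρ).trans hfr
    refine ⟨ρ.character, Char.isCharacter_character ρ, fun g hg => ?_, by rw [hdeg]; exact hn1, Or.inl hdeg,
      hdeg.le, fun h => absurd h he⟩
    refine hρ (((Char.character_eq_degree_iff ρ g).mp (by rw [hg, Representation.char_one])).trans
      (map_one ρ).symm)

theorem isSolvable_of_primitive [Nontrivial E] {n r : ℕ} [hr : Fact r.Prime] (hn1 : 1 < n)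
    (hn : Nat.card E = 2 ^ n) (hrd : r ∣ 2 ^ n - 1)
    (hmin : ∀ k, 0 < k → k < n → ¬ r ∣ 2 ^ k - 1) : Group.IsSolvable D := by
  classical
  have hrn : n ∣ r - 1 := (Zsigmondy.dvd_sub_one_of_primitive two_pos (by omega) hrd hmin).2
  have hr2 : r ≠ 2 := by
    rintro rfl
    have := Nat.le_of_dvd (by norm_num) hrn
    omega
  have hrG : r ∣ Nat.card D := hrd.trans (two_pow_sub_one_dvd htrans hn)
  obtain ⟨χ, hχ, hfaith, hd0, hdn, hdle, hdhalf⟩ :=
    exists_small_character hodd hE htrans hn (by omega)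
  have hbound : 2 * Cfsg.charDegree χ + 1 ≤ r := by
    obtain ⟨c, hc⟩ := hrn
    have hc0 : c ≠ 0 := by
      rintro rfl
      have := hr.out.two_le
      omega
    rcases Nat.even_or_odd n with he | ho
    · have := hdhalf he
      have : n ≤ n * c := Nat.le_mul_of_pos_right n (by omega)
      have := hr.out.two_le
      omega
    · have hce : c ≠ 1 := by
        rintro rfl
        obtain ⟨m, hm⟩ := hr.out.odd_of_ne_two hr2
        obtain ⟨l, hl⟩ := ho
        omega
      have : n * 2 ≤ n * c := Nat.mul_le_mul_left n (by omega)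
      have := hr.out.two_le
      omega
  have hcyc : ∀ x : D, orderOf x = r → IsCyclic (Subgroup.centralizer ({x} : Set D)) :=
    fun x hx => isCyclic_centralizer (eq_bot_or_top_of_invariant hE (by omega) hn hrd hmin hx)
  -- a normal cyclic subgroup containing an element of order `r`
  obtain ⟨N, hNn, hNc, x, hxN, hx⟩ : ∃ N : Subgroup D, N.Normal ∧ IsCyclic N ∧
      ∃ x ∈ N, orderOf x = r := by
    by_cases hsq : r ^ 2 ∣ Nat.card D
    · obtain ⟨P⟩ : Nonempty (Sylow r D) := inferInstance
      obtain ⟨k, hk⟩ := IsPGroup.iff_card.mp P.2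
      have hk2 : 2 ≤ k := by
        have h1 := P.pow_dvd_card_of_pow_dvd_card hsq
        rw [hk] at h1
        exact Nat.pow_dvd_pow_iff_le_right hr.out.one_lt |>.mp h1
      have : Nontrivial (P : Subgroup D) := (Finite.one_lt_card_iff_nontrivial).mp
        (hk ▸ Nat.one_lt_pow (by omega) hr.out.one_lt)
      obtain ⟨z, hz⟩ := exists_prime_orderOf_dvd_card' (G := Subgroup.center (P : Subgroup D)) r
        (((P.2.to_subgroup (Subgroup.center (P : Subgroup D))).card_eq_or_dvd).resolve_left
          (fun h => not_subsingleton_iff_nontrivial.mpr P.2.center_nontrivial (Nat.card_eq_one_iff_unique.mp h).1))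
      set x : D := ((z : (P : Subgroup D)) : D) with hxdef
      have hx : orderOf x = r := by
        rw [hxdef, Subgroup.orderOf_coe, Subgroup.orderOf_coe, hz]
      have hPC : (P : Subgroup D) ≤ Subgroup.centralizer {x} := fun y hy =>
        Subgroup.mem_centralizer_singleton_iff.mpr
          (congrArg Subtype.val (Subgroup.mem_center_iff.mp z.2 ⟨y, hy⟩))
      have hC := hcyc x hx
      have hPc : IsCyclic (P : Subgroup D) :=
        isCyclic_of_injective (Subgroup.inclusion hPC) (Subgroup.inclusion_injective hPC)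
      refine ⟨P, ?_, hPc, x, (z : (P : Subgroup D)).2, hx⟩
      refine Cfsg.Agent.S4485.result r hr.out hrG P (fun y hy hy1 => le_antisymm ?_ ?_) k hk χ hχ
        hfaith ?_
      · obtain ⟨i, hi, hio⟩ := (Nat.dvd_prime_pow hr.out).mp
          (hk ▸ Subgroup.orderOf_mk y hy ▸ orderOf_dvd_natCard (⟨y, hy⟩ : (P : Subgroup D)))
        have hi1 : 1 ≤ i := Nat.pos_of_ne_zero fun h0 => hy1 (orderOf_eq_one_iff.mp (by rw [hio, h0, pow_zero]))
        have hw : orderOf (y ^ r ^ (i - 1)) = r := by
          rw [orderOf_pow_of_dvd (pow_ne_zero _ hr.out.ne_zero) (hio ▸ pow_dvd_pow r (Nat.sub_le _ _)),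
            hio, Nat.pow_div (Nat.sub_le _ _) hr.out.pos, show i - (i - 1) = 1 by omega, pow_one]
        have hCw := hcyc _ hw
        have hmem : ∀ g, g ∈ Subgroup.centralizer {y} →
            g ∈ Subgroup.centralizer {y ^ r ^ (i - 1)} := fun g hg =>
          Subgroup.mem_centralizer_singleton_iff.mpr
            ((show Commute g y from Subgroup.mem_centralizer_singleton_iff.mp hg).pow_right _).eq
        intro g hg
        rw [Subgroup.mem_centralizer_iff]
        intro w hw'
        have hwy : w ∈ Subgroup.centralizer {y} := Subgroup.mem_centralizer_singleton_iff.mpr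
          (congrArg Subtype.val (hPc.commGroup.mul_comm ⟨w, hw'⟩ ⟨y, hy⟩))
        exact congrArg Subtype.val (hCw.commGroup.mul_comm ⟨w, hmem w hwy⟩ ⟨g, hmem g hg⟩)
      · intro g hg
        exact Subgroup.mem_centralizer_singleton_iff.mpr (Subgroup.mem_centralizer_iff.mp hg y hy).symm
      · calc Cfsg.charDegree χ ^ 2 + 1 < (2 * Cfsg.charDegree χ + 1) ^ 2 := by nlinarith
          _ ≤ r ^ 2 := Nat.pow_le_pow_left hbound 2
          _ ≤ r ^ k := Nat.pow_le_pow_right hr.out.pos hk2
    · by_cases hnn : ∀ H : Subgroup D, H.Normal → Nat.card H ≠ r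
      · exfalso
        have h1 := Cfsg.Agent.S4503.result r hr.out hrG hsq hnn χ hχ hfaith
        obtain ⟨e⟩ := Cfsg.Agent.S4504.result r hr.out hrG hsq hnn χ hχ hfaith (le_antisymm hbound h1)
        have h2 := even_card_psl_two r
        rw [← Nat.card_congr e.toEquiv] at h2
        exact (Nat.not_even_iff_odd.mpr hodd) (even_iff_two_dvd.mpr
          (h2.two_dvd.trans (Subgroup.card_quotient_dvd_card _)))
      · push Not at hnn
        obtain ⟨H, hH, hHc⟩ := hnn
        obtain ⟨z, hz⟩ := exists_prime_orderOf_dvd_card' (G := H) r (hHc ▸ dvd_refl r)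
        exact ⟨H, hH, isCyclic_of_prime_card hHc, z, z.2, by rw [Subgroup.orderOf_coe, hz]⟩
  refine isSolvable_of_cyclic_normal N fun u hu v hv => ?_
  have hC := hcyc x hx
  have hsub : Subgroup.centralizer (N : Set D) ≤ Subgroup.centralizer {x} :=
    Subgroup.centralizer_le (Set.singleton_subset_iff.mpr hxN)
  exact congrArg Subtype.val (hC.commGroup.mul_comm ⟨u, hsub hu⟩ ⟨v, hsub hv⟩)

theorem isSolvable_of_card_sixtyfour [Nontrivial E] (hn : Nat.card E = 2 ^ 6) :
    Group.IsSolvable D := by
  classical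
  obtain ⟨hdvd, ρ, hρ, -⟩ := exists_rep hodd hE htrans hn
  have hGL : Nat.card (GL (Fin 6) (ZMod 2)) = 2 ^ 15 * 615195 := by
    rw [Matrix.card_GL_field, ZMod.card, Fin.prod_univ_six]
    norm_num
  rw [hGL] at hdvd
  have hdvd' : Nat.card D ∣ 3 ^ 4 * 5 * 7 ^ 2 * 31 :=
    ((Nat.coprime_two_right.mpr hodd).pow_right 15).dvd_of_dvd_mul_left hdvd
  have h31 : ¬ 31 ∣ Nat.card D := by
    intro h31
    have : Fact (Nat.Prime 31) := ⟨by norm_num⟩
    have hsq : ¬ 31 ^ 2 ∣ Nat.card D := fun h => by
      have := h.trans hdvd'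
      norm_num at this
    by_cases hnn : ∀ H : Subgroup D, H.Normal → Nat.card H ≠ 31
    · have h1 := Cfsg.Agent.S4503.result 31 (by norm_num) h31 hsq hnn ρ.character
        (Char.isCharacter_character ρ) (fun g hg =>
          hρ (((Char.character_eq_degree_iff ρ g).mp (by rw [hg, Representation.char_one])).trans
            (map_one ρ).symm))
      rw [show Cfsg.charDegree ρ.character = 6 from
        (Char.degree_character ρ).trans (Module.finrank_fin_fun ℂ)] at h1
      omega
    · push Not at hnn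
      obtain ⟨H, hH, hHc⟩ := hnn
      have hHp : IsPGroup 31 H := IsPGroup.of_card (n := 1) (by rw [hHc, pow_one])
      obtain ⟨e, he, he0⟩ : ∃ e ∈ fixedPoints H E, e ≠ 0 := by
        by_contra hcon
        push Not at hcon
        have heq : fixedPoints H E = {0} := Set.eq_singleton_iff_unique_mem.mpr
          ⟨fun g => smul_zero (g : D), hcon⟩
        have h := hHp.card_modEq_card_fixedPoints (α := E)
        rw [heq, hn, Nat.card_coe_set_eq, Set.ncard_singleton] at h
        norm_num [Nat.ModEq] at h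
      have hb := eq_bot_of_fixed htrans H he0 fun k hk => he ⟨k, hk⟩
      rw [hb, Subgroup.card_bot] at hHc
      omega
  have hdvd'' : Nat.card D ∣ 3 ^ 4 * 5 * 7 ^ 2 :=
    ((Nat.Prime.coprime_iff_not_dvd (by norm_num : Nat.Prime 31)).mpr h31).symm.dvd_of_dvd_mul_right hdvd'
  have hsmall : ∀ (m : ℕ) (H : Subgroup D), Nat.card H = m → m ∣ 3 ^ 4 * 7 ^ 2 → Group.IsSolvable H := by
    intro m H hm hd
    refine Char.isSolvable_of_two_primes 3 7 Nat.prime_three (by norm_num) m H hm fun r hr hrm => ?_
    rcases hr.dvd_mul.mp (hrm.trans hd) with h | h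
    · exact Or.inl ((Nat.prime_dvd_prime_iff_eq hr Nat.prime_three).mp (hr.dvd_of_dvd_pow h))
    · exact Or.inr ((Nat.prime_dvd_prime_iff_eq hr (by norm_num)).mp (hr.dvd_of_dvd_pow h))
  have : Fact (Nat.Prime 5) := ⟨by norm_num⟩
  by_cases h5 : 5 ∣ Nat.card D
  · obtain ⟨P⟩ : Nonempty (Sylow 5 D) := inferInstance
    have hP : Nat.card (P : Subgroup D) = 5 := by
      obtain ⟨k, hk⟩ := IsPGroup.iff_card.mp P.2
      have h1 : 5 ^ 1 ∣ 5 ^ k := hk ▸ P.pow_dvd_card_of_pow_dvd_card (by simpa using h5)
      have h2 : 5 ^ k ∣ 3 ^ 4 * 5 * 7 ^ 2 := (hk ▸ Subgroup.card_subgroup_dvd_card _).trans hdvd''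
      have hk1 := (Nat.pow_dvd_pow_iff_le_right (by norm_num : 1 < 5)).mp h1
      have hk2 : k < 2 := by
        by_contra h
        have := (pow_dvd_pow 5 (not_lt.mp h)).trans h2
        norm_num at this
      rw [hk, show k = 1 by omega, pow_one]
    obtain ⟨K, hK, hKi⟩ := exists_normal_index_five hodd P hP
    have hcard := K.card_mul_index
    rw [hKi] at hcard
    have hKs : Group.IsSolvable K := hsmall _ K rfl (by
      have h := hdvd''
      rw [← hcard, show 3 ^ 4 * 5 * 7 ^ 2 = 3 ^ 4 * 7 ^ 2 * 5 by norm_num] at h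
      exact Nat.dvd_of_mul_dvd_mul_right (by norm_num) h)
    have hQc : IsCyclic (D ⧸ K) := isCyclic_of_prime_card (p := 5) hKi
    have hQ : Group.IsSolvable (D ⧸ K) := Group.isSolvable_of_comm hQc.commGroup.mul_comm
    exact Group.isSolvable_of_ker_le_range K.subtype (QuotientGroup.mk' K)
      (by rw [Subgroup.range_subtype, QuotientGroup.ker_mk'])
  · have h1 : Group.IsSolvable (⊤ : Subgroup D) := hsmall _ ⊤ rfl (by
      rw [Subgroup.card_top]
      have h := hdvd''
      rw [show 3 ^ 4 * 5 * 7 ^ 2 = 3 ^ 4 * 7 ^ 2 * 5 by norm_num] at h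
      exact ((Nat.Prime.coprime_iff_not_dvd (by norm_num : Nat.Prime 5)).mpr h5).symm.dvd_of_dvd_mul_right h)
    exact Group.isSolvable_of_isSolvable_injective (f := (Subgroup.topEquiv (G := D)).symm.toMonoidHom)
      (Subgroup.topEquiv (G := D)).symm.injective

/-- A group of odd order transitive on the nonzero vectors is solvable. -/
theorem isSolvable [Nontrivial E] : Group.IsSolvable D := by
  obtain ⟨n, hn⟩ := exists_card_eq hE (⊤ : AddSubgroup E)
  rw [AddSubgroup.card_top] at hn
  have h2 : 1 < Nat.card E := Finite.one_lt_card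
  rcases (show n = 0 ∨ n = 1 ∨ 1 < n by omega) with rfl | rfl | h1
  · omega
  · have : Subsingleton D := ⟨fun g g' => FaithfulSMul.eq_of_smul_eq_smul fun w : E => by
      obtain ⟨u, v, -, huv⟩ := Nat.card_eq_two_iff.mp (hn.trans (pow_one 2))
      have hall : ∀ z : E, z = u ∨ z = v := fun z => by
        have : z ∈ ({u, v} : Set E) := huv ▸ Set.mem_univ z
        simpa using this
      by_cases hw : w = 0
      · rw [hw, smul_zero, smul_zero]
      have hfix : ∀ d : D, d • w = w := fun d => by
        have hdw : d • w ≠ 0 := fun h => hw (smul_left_cancel d (h.trans (smul_zero d).symm))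
        rcases hall (d • w) with h | h <;> rcases hall w with h' | h' <;> rcases hall 0 with h0 | h0 <;>
          simp_all
      rw [hfix, hfix]⟩
    infer_instance
  · by_cases h6 : n = 6
    · subst h6
      exact isSolvable_of_card_sixtyfour hodd hE htrans hn
    · obtain ⟨r, hr, hrd, hmin⟩ := Zsigmondy.exists_primitive_prime_divisor (a := 2) (n := n)
        one_lt_two h1 (fun h => h6 h.2) (fun h => by
          obtain ⟨-, m, hm⟩ := h
          rcases m with _ | m
          · norm_num at hm
          · rw [pow_succ] at hm; omega)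
      have : Fact r.Prime := ⟨hr⟩
      exact isSolvable_of_primitive hodd hE htrans h1 hn hrd hmin

end main

end CfsgLib.OddTransitive
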